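import Groth.Agent.EtFiltC.Opens
import Groth.Agent.EtFound.AbRecollement
import Groth.Agent.EtFound.ConstrAb
import Groth.Agent.EtCdp5.Main
import Groth.Agent.H23.RedSub

/-! Constructible sheaves are filtered by extensions by zero of finite locally constant sheaves. -/

set_option backward.isDefEq.respectTransparency false
set_option backward.isDefEq.respectTransparency.types false

universe u

open CategoryTheory CategoryTheory.Limits AlgebraicGeometry Opposite Topology TopologicalSpace

noncomputable section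

namespace Groth.Agent.EtFiltC

attribute [local instance] EtFound.pull_preservesFiniteLimits

variable {W U X : Scheme.{u}}

/-- restriction along a composite -/
def restrCompIso (a : W ⟶ U) (j : U ⟶ X) (b : W ⟶ X) [IsOpenImmersion a] [IsOpenImmersion j] [IsOpenImmersion b]
    (h : a ≫ j = b) :
    EtShriek.restrAlong j ⋙ EtShriek.restrAlong a ≅ EtShriek.restrAlong b :=
  Functor.sheafPushforwardContinuousComp' (F := EtShriek.compEtale a) (G := EtShriek.compEtale j)
    (FG := EtShriek.compEtale b)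
    (NatIso.ofComponents (fun V => MorphismProperty.Over.isoMk (Iso.refl _)
      (by subst h; simp))
      (fun _ => MorphismProperty.Over.Hom.ext ((Category.comp_id _).trans (Category.id_comp _).symm)))
    AddCommGrpCat.{u + 1} W.smallEtaleTopology U.smallEtaleTopology X.smallEtaleTopology

/-- extension by zero along a composite -/
def extZeroCompIso (a : W ⟶ U) (j : U ⟶ X) (b : W ⟶ X) [IsOpenImmersion a] [IsOpenImmersion j] [IsOpenImmersion b]
    (h : a ≫ j = b) :
    EtShriek.extZero a ⋙ EtShriek.extZero j ≅ EtShriek.extZero b :=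
  ((EtShriek.extZeroAdj a).comp (EtShriek.extZeroAdj j)).leftAdjointUniq
    ((EtShriek.extZeroAdj b).ofNatIsoRight (restrCompIso a j b h).symm)

/-- `j_! j^* F` for an open. -/
abbrev sub (F : EtCoh.Ab X) (V : X.Opens) : EtCoh.Ab X :=
  (EtShriek.extZero V.ι).obj ((EtShriek.restrAlong V.ι).obj F)

theorem isZero_sub_bot (F : EtCoh.Ab X) (V : X.Opens) (hV : (V : Set X) = ∅) : IsZero (sub F V) := by
  haveI : IsEmpty V.toScheme := ⟨fun x => (Set.eq_empty_iff_forall_notMem.1 hV x.1 x.2)⟩
  haveI : PreservesFiniteLimits (EtShriek.extZero V.ι) := EtFound.extZero_preservesFiniteLimits V.ι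
  haveI : (EtShriek.extZero V.ι).Additive := Functor.additive_of_preserves_binary_products _
  exact Functor.map_isZero _ (EtCdp5.isZero_of_isEmpty _)

theorem nonempty_sub_top (F : EtCoh.Ab X) (V : X.Opens) (hV : (V : Set X) = Set.univ) : Nonempty (sub F V ≅ F) := by
  let c := (EtShriek.extZeroAdj V.ι).counit.app F
  haveI : IsIso c := (EtFound.isIso_iff_stalks _).2 fun Ω _ _ ξ =>
    EtFound.isIso_stalk_of_lift V.ι _ ξ (by rw [Scheme.Opens.range_ι, hV]; trivial)
      fun k _ _ z => EtFound.isIso_counit_stalk V.ι z F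
  exact ⟨asIso c⟩

theorem exists_step [CompactSpace X] [QuasiSeparatedSpace X] (F : EtCoh.Ab X) (V₀ V : X.Opens) (hle : V₀ ≤ V)
    (h0 : IsCompact (V₀ : Set X)) (hV : IsCompact (V : Set X)) {T : Scheme.{u}} (g : T ⟶ X) [IsImmersion g]
    (hg : EtCoh.IsFiniteLocallyConstant ((EtCoh.pull g).obj F))
    (hsub : (V : Set X) \ V₀ ⊆ Set.range g) :
    ∃ (ι : sub F V₀ ⟶ sub F V) (U W : Scheme.{u}) (j : U ⟶ X) (_ : IsOpenImmersion j) (c : W ⟶ U)
      (_ : IsClosedImmersion c) (G : EtCoh.Ab W)
      (π : sub F V ⟶ (EtShriek.extZero j).obj ((EtCoh.push c).obj G)) (hz : ι ≫ π = 0),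
      Topology.IsConstructible (Set.range (c ≫ j)) ∧ EtCoh.IsFiniteLocallyConstant G ∧
      (ShortComplex.mk ι π hz).ShortExact := by
  let j : (V : Scheme.{u}) ⟶ X := V.ι
  let a : (V₀ : Scheme.{u}) ⟶ V := X.homOfLE hle
  let Z : Closeds (V : Scheme.{u}) := ⟨(Set.range a.base)ᶜ, a.opensRange.2.isClosed_compl⟩
  let c := (Scheme.IdealSheafData.vanishingIdeal Z).subschemeι
  have hc : Set.range c = (Set.range a.base)ᶜ := H23.RedSub.range_vanishingIdeal Z
  obtain ⟨w, hS⟩ := EtFound.recollement_shortExact c a (by rw [hc, compl_compl]) ((EtShriek.restrAlong j).obj F)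
  haveI : PreservesFiniteLimits (EtShriek.extZero j) := EtFound.extZero_preservesFiniteLimits j
  haveI : (EtShriek.extZero j).IsLeftAdjoint := (EtShriek.extZeroAdj j).isLeftAdjoint
  haveI : (EtShriek.extZero j).Additive := Functor.additive_of_preserves_binary_products _
  have hS' := hS.map_of_exact (EtShriek.extZero j)
  let e₁ : (EtShriek.extZero j).obj ((EtShriek.extZero a).obj ((EtShriek.restrAlong a).obj
      ((EtShriek.restrAlong j).obj F))) ≅ sub F V₀ :=
    (extZeroCompIso a j V₀.ι (Scheme.homOfLE_ι X hle)).app _ ≪≫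
      (EtShriek.extZero V₀.ι).mapIso ((restrCompIso a j V₀.ι (Scheme.homOfLE_ι X hle)).app F)
  have hrange : Set.range (c ≫ j) = (V : Set X) \ V₀ := by
    rw [Scheme.Hom.comp_base, TopCat.coe_comp, Set.range_comp, hc]
    ext x
    constructor
    · rintro ⟨y, hy, rfl⟩
      exact ⟨y.2, fun h => hy ⟨⟨y.1, h⟩, Subtype.ext (congrArg (fun f => f.base (⟨y.1, h⟩ : V₀.toScheme))
        (Scheme.homOfLE_ι X hle))⟩⟩
    · rintro ⟨hx, hx0⟩
      refine ⟨⟨x, hx⟩, fun ⟨z, hz⟩ => hx0 ?_, rfl⟩
      have : (a ≫ j) z = x := by rw [Scheme.Hom.comp_apply, hz]; rfl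
      rw [Scheme.homOfLE_ι] at this
      exact this ▸ z.2
  have hflc : EtCoh.IsFiniteLocallyConstant ((EtCoh.pull c).obj ((EtShriek.restrAlong j).obj F)) := by
    refine EtFound.isFiniteLocallyConstant_of_iso
      ((EtFound.pullCompAb c j).app F ≪≫ (EtCoh.pull c).mapIso ((EtCdp5.restrPullIso j).app F).symm) ?_
    let p := pullback.fst (c ≫ j) g
    haveI : Surjective p := ⟨fun y => by
      obtain ⟨t, ht⟩ := hsub (hrange ▸ Set.mem_range_self y)
      obtain ⟨q, hq, -⟩ := Scheme.Pullback.exists_preimage_pullback (f := c ≫ j) (g := g) y t ht.symm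
      exact ⟨q, hq⟩⟩
    haveI : IsImmersion p := MorphismProperty.pullback_fst _ _ ‹IsImmersion g›
    haveI : IsClosedImmersion p := IsClosedImmersion.of_isPreimmersion p (by rw [Set.range_eq_univ.mpr p.surjective]; exact isClosed_univ)
    haveI : IsIso p := isIso_of_isClosedImmersion_of_surjective p
    have e : c ≫ j = (inv p ≫ pullback.snd (c ≫ j) g) ≫ g := by
      rw [Category.assoc, IsIso.eq_inv_comp, pullback.condition]
    rw [e]
    exact EtFound.isFiniteLocallyConstant_of_iso ((EtFound.pullCompAb _ g).app F).symm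
      (EtFound.isFiniteLocallyConstant_pull _ hg)
  refine ⟨e₁.inv ≫ (EtShriek.extZero j).map ((EtShriek.extZeroAdj a).counit.app _), _, _, j, inferInstance, c,
    inferInstance, (EtCoh.pull c).obj ((EtShriek.restrAlong j).obj F),
    (EtShriek.extZero j).map ((EtCoh.pullPushAdj c).unit.app _), ?_, ?_, hflc, ?_⟩
  · rw [Category.assoc, ← Functor.map_comp]
    erw [w]
    rw [Functor.map_zero, comp_zero]
  · rw [hrange, Set.sdiff_eq]
    exact ((IsCompact.isRetrocompact hV V.2).isConstructible V.2).inter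
      ((IsCompact.isRetrocompact h0 V₀.2).isConstructible V₀.2).compl
  · refine ShortComplex.shortExact_of_iso (S₁ := (ShortComplex.mk _ _ w).map (EtShriek.extZero j))
      (ShortComplex.isoMk e₁ (Iso.refl _) (Iso.refl _) ?_ ?_) hS'
    · exact (Iso.hom_inv_id_assoc _ _).trans (Category.comp_id _).symm
    · exact (Category.id_comp _).trans (Category.comp_id _).symm

theorem filtration [CompactSpace X] [QuasiSeparatedSpace X] (F : EtCoh.Ab X) (hF : EtPBC.IsConstructible F) :
    ∃ (n : ℕ) (E : Fin (n + 1) → EtCoh.Ab X) (ι : ∀ k : Fin n, E k.castSucc ⟶ E k.succ),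
      IsZero (E 0) ∧ Nonempty (E (Fin.last n) ≅ F) ∧
      ∀ k : Fin n, ∃ (U W : Scheme.{u}) (j : U ⟶ X) (_ : IsOpenImmersion j) (c : W ⟶ U)
        (_ : IsClosedImmersion c) (G : EtCoh.Ab W)
        (π : E k.succ ⟶ (EtShriek.extZero j).obj ((EtCoh.push c).obj G)) (hz : ι k ≫ π = 0),
        Topology.IsConstructible (Set.range (c ≫ j)) ∧ EtCoh.IsFiniteLocallyConstant G ∧
        (ShortComplex.mk (ι k) π hz).ShortExact := by
  obtain ⟨n, T, g, hg, hgc, -, hu, hflc⟩ := (EtFound.isConstructible_iff_adaptedStrata X F).1 hF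
  rcases Nat.eq_zero_or_pos n with rfl | hn
  · haveI : IsEmpty X := ⟨fun x => by
      obtain ⟨i, -⟩ := Set.mem_iUnion.1 (hu.ge (Set.mem_univ x)); exact i.elim0⟩
    exact ⟨0, fun _ => F, fun k => k.elim0, EtCdp5.isZero_of_isEmpty F, ⟨Iso.refl _⟩, fun k => k.elim0⟩
  haveI : NeZero n := ⟨hn.ne'⟩
  have hgc' : ∀ i, IsConstructible (Set.range (g i)) := fun i => by
    exact (hgc i).preimage_of_isOpenEmbedding
      (f := fun x : X => (⟨x, trivial⟩ : (Set.univ : Set X))) (Homeomorph.Set.univ X).symm.isOpenEmbedding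
  obtain ⟨m, V, hV0, hV1, hVc, hstep⟩ := exists_open_chain (fun i => Set.range (g i)) hgc' hu
  have hs : ∀ k : Fin m, ∃ (ι : sub F (V k.castSucc) ⟶ sub F (V k.succ)) (U W : Scheme.{u}) (j : U ⟶ X)
      (_ : IsOpenImmersion j) (c : W ⟶ U) (_ : IsClosedImmersion c) (G : EtCoh.Ab W)
      (π : sub F (V k.succ) ⟶ (EtShriek.extZero j).obj ((EtCoh.push c).obj G)) (hz : ι ≫ π = 0),
      Topology.IsConstructible (Set.range (c ≫ j)) ∧ EtCoh.IsFiniteLocallyConstant G ∧
      (ShortComplex.mk ι π hz).ShortExact := fun k => by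
    obtain ⟨hle, i, hi⟩ := hstep k
    haveI := hg i
    exact exists_step F _ _ hle (hVc _) (hVc _) (g i) (hflc i) hi
  choose ι hι using hs
  exact ⟨m, fun k => sub F (V k), ι, isZero_sub_bot F _ hV0, nonempty_sub_top F _ hV1, hι⟩

end Groth.Agent.EtFiltC
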