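import Groth.Agent.EtFound.Strata

/-! A chain of quasi-compact opens refining a constructible partition. -/

universe u

open CategoryTheory CategoryTheory.Limits AlgebraicGeometry Opposite Topology TopologicalSpace

namespace Groth.Agent.EtFiltC

variable {X : Type u} [TopologicalSpace X] [CompactSpace X] [QuasiSeparatedSpace X]

theorem exists_open_chain {n : ℕ} [NeZero n] (S : Fin n → Set X) (hS : ∀ i, IsConstructible (S i))
    (hu : (⋃ i, S i) = Set.univ) :
    ∃ (m : ℕ) (V : Fin (m + 1) → Opens X), (V 0 : Set X) = ∅ ∧ (V (Fin.last m) : Set X) = Set.univ ∧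
      (∀ k, IsCompact (V k : Set X)) ∧
      ∀ k : Fin m, V k.castSucc ≤ V k.succ ∧ ∃ i, (V k.succ : Set X) \ V k.castSucc ⊆ S i := by
  classical
  choose D hDf hD1 hD2 using fun i => EtFound.exists_opens_determining (hS i)
  let s : Finset (Set X) := (Set.finite_iUnion hDf).toFinset
  have hs : ∀ U ∈ s, IsOpen U ∧ IsCompact U := fun U hU => by
    obtain ⟨i, hi⟩ := Set.mem_iUnion.1 ((Set.finite_iUnion hDf).mem_toFinset.1 hU)
    obtain ⟨h1, h2⟩ := hD1 i U hi
    exact ⟨h1, by simpa using h2 isCompact_univ isOpen_univ⟩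
  -- the basic opens
  let B : Finset (Set X) → Set X := fun a => ⋂ U ∈ a, U
  have hB : ∀ a : Finset (Set X), a ⊆ s → IsOpen (B a) ∧ IsCompact (B a) := by
    intro a ha
    induction a using Finset.induction with
    | empty => simp [B, isOpen_univ, isCompact_univ]
    | @insert U a hU ih =>
      obtain ⟨h1, h2⟩ := hs U (ha (Finset.mem_insert_self U a))
      obtain ⟨h3, h4⟩ := ih fun W hW => ha (Finset.mem_insert_of_mem hW)
      have e : B (insert U a) = U ∩ B a := by simp [B]
      rw [e]
      exact ⟨h1.inter h3, QuasiSeparatedSpace.inter_isCompact _ _ h1 h2 h3 h4⟩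
  let sig : X → Finset (Set X) := fun x => s.filter fun U => x ∈ U
  let l : List (Finset (Set X)) := s.powerset.toList.mergeSort fun a b => decide (b.card ≤ a.card)
  have hl : ∀ a, a ∈ l ↔ a ⊆ s := fun a => by simp [l]
  have hsorted : ∀ (i j : Fin l.length), i < j → (l.get j).card ≤ (l.get i).card := by
    have h := List.pairwise_mergeSort (le := fun a b : Finset (Set X) => decide (b.card ≤ a.card))
      (fun a b c h1 h2 => by simp at h1 h2 ⊢; omega) (fun a b => by simp; omega) s.powerset.toList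
    intro i j hij
    simpa using List.pairwise_iff_get.1 h i j hij
  let V : Fin (l.length + 1) → Opens X := fun k =>
    ⟨⋃ j : Fin l.length, ⋃ (_ : j.1 < k.1), B (l.get j),
      isOpen_iUnion fun j => isOpen_iUnion fun _ => (hB _ ((hl _).1 (List.get_mem l j))).1⟩
  have mem_B : ∀ x a, x ∈ B a ↔ ∀ U ∈ a, x ∈ U := fun x a => by simp [B]
  refine ⟨l.length, V, ?_, ?_, fun k => ?_, fun k => ⟨fun x hx => ?_, ?_⟩⟩
  · simp [V]
  · refine Set.eq_univ_of_forall fun x => ?_
    obtain ⟨j, hj⟩ := List.get_of_mem ((hl (sig x)).2 (Finset.filter_subset _ _))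
    refine Set.mem_iUnion₂.2 ⟨j, by simp, ?_⟩
    rw [hj, mem_B]
    exact fun U hU => (Finset.mem_filter.1 hU).2
  · exact isCompact_iUnion fun j => by
      by_cases h : j.1 < k.1
      · simpa [h] using (hB _ ((hl _).1 (List.get_mem l j))).2
      · simp [h]
  · obtain ⟨j, hj, hx⟩ := Set.mem_iUnion₂.1 hx
    exact Set.mem_iUnion₂.2 ⟨j, by simp at hj ⊢; omega, hx⟩
  · have hsig : ∀ x ∈ (V k.succ : Set X) \ V k.castSucc, sig x = l.get k := by
      rintro x ⟨hx, hx'⟩
      obtain ⟨j, hj, hxj⟩ := Set.mem_iUnion₂.1 hx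
      have hjk : j = k := by
        by_contra hne
        refine hx' (Set.mem_iUnion₂.2 ⟨j, ?_, hxj⟩)
        simp only [Fin.val_succ, Fin.val_castSucc] at hj ⊢
        have : j.1 ≠ k.1 := fun h => hne (Fin.ext h)
        omega
      subst hjk
      have hsub : l.get j ⊆ sig x := fun U hU =>
        Finset.mem_filter.2 ⟨(hl _).1 (List.get_mem l j) hU, (mem_B x _).1 hxj U hU⟩
      by_contra hne
      obtain ⟨i, hi⟩ := List.get_of_mem ((hl (sig x)).2 (Finset.filter_subset _ _))
      have hlt : (l.get j).card < (sig x).card :=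
        Finset.card_lt_card ⟨hsub, fun h => hne (Finset.Subset.antisymm h hsub)⟩
      refine hx' (Set.mem_iUnion₂.2 ⟨i, ?_, ?_⟩)
      · rcases lt_trichotomy i j with h | h | h
        · simpa using h
        · subst h; exact absurd hi.symm hne
        · have := hsorted j i h
          rw [hi] at this
          omega
      · rw [hi, mem_B]
        exact fun U hU => (Finset.mem_filter.1 hU).2
    by_cases hne : ((V k.succ : Set X) \ V k.castSucc).Nonempty
    · obtain ⟨x, hx⟩ := hne
      obtain ⟨i, hi⟩ := Set.mem_iUnion.1 (hu.ge (Set.mem_univ x))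
      refine ⟨i, fun y hy => (hD2 i x y fun U hU => ?_).1 hi⟩
      have hUs : U ∈ s := (Set.finite_iUnion hDf).mem_toFinset.2 (Set.mem_iUnion.2 ⟨i, hU⟩)
      have e := (hsig x hx).trans (hsig y hy).symm
      simpa [sig, hUs] using Finset.ext_iff.1 e U
    · exact ⟨0, fun y hy => absurd ⟨y, hy⟩ hne⟩

end Groth.Agent.EtFiltC
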